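import Cfsg.Agent.Lib.AltCover.Exists
import Mathlib.GroupTheory.Perm.Cycle.Type

/-!
In a double cover of an alternating group the lift of a product of an odd number of disjoint double
transpositions has order four.
-/

set_option autoImplicit false

namespace Cfsg.Agent.HSMult

open Equiv Cfsg.Agent.S0447
open scoped commutatorElement

section Cover

variable {m : ℕ} {Γ : Type*} [Group Γ] {z : Γ} (hzc : z ∈ Subgroup.center Γ) (hz : orderOf z = 2)
  {π : Γ →* alternatingGroup (Fin (m + 2))} (hker : π.ker = Subgroup.zpowers z)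

include hz hker in
theorem ker_cases {k : Γ} (hk : π k = 1) : k = 1 ∨ k = z := by
  have hz2 : z * z = 1 := by rw [← pow_two, ← hz]; exact pow_orderOf_eq_one z
  have h : k ∈ Subgroup.zpowers z := hker ▸ MonoidHom.mem_ker.2 hk
  obtain ⟨n, rfl⟩ := Subgroup.mem_zpowers_iff.1 h
  rcases Int.even_or_odd n with ⟨t, rfl⟩ | ⟨t, rfl⟩
  · left; rw [← two_mul, zpow_mul, zpow_two, hz2, one_zpow]
  · right; rw [zpow_add, zpow_mul, zpow_two, hz2, one_zpow, one_mul, zpow_one]

include hzc hz hker in
theorem ker_central {k : Γ} (hk : π k = 1) (x : Γ) : x * k = k * x := by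
  rcases ker_cases hz hker hk with rfl | rfl
  · simp
  · exact Subgroup.mem_center_iff.1 hzc x

include hzc hz hker in
/-- The lift of an element of order three commutes with the lifts of its centraliser. -/
theorem lift_comm_three {x y : Γ} (hx : π x ^ 3 = 1) (hxy : π x * π y = π y * π x) : x * y = y * x := by
  set k := y * x * y⁻¹ * x⁻¹ with hk
  have hk1 : π k = 1 := by
    rw [hk]; simp only [map_mul, map_inv]; rw [← hxy]; group
  have hx3 : π (x ^ 3) = 1 := by rw [map_pow, hx]
  have e : y * x * y⁻¹ = k * x := by rw [hk]; group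
  have h3 : k ^ 3 * x ^ 3 = x ^ 3 := by
    rw [← (show Commute k x from (ker_central hzc hz hker hk1 x).symm).mul_pow, ← e, conj_pow,
      ker_central hzc hz hker hx3 y, mul_inv_cancel_right]
  rw [mul_eq_right] at h3
  have h2 : k ^ 2 = 1 := by
    rcases ker_cases hz hker hk1 with h | h <;> rw [h]
    · simp
    · rw [← hz]; exact pow_orderOf_eq_one z
  rw [pow_succ, h2, one_mul] at h3
  rw [h3, one_mul] at e
  calc x * y = y * x * y⁻¹ * y := by rw [e]
    _ = y * x := by group

end Cover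

variable {α : Type*} [DecidableEq α]

/-- A double transposition. -/
def dt (q : α × α × α × α) : Perm α := swap q.1 q.2.1 * swap q.2.2.1 q.2.2.2

/-- The four points. -/
def flat4 (l : List (α × α × α × α)) : List α := l.flatMap fun q => [q.1, q.2.1, q.2.2.1, q.2.2.2]

theorem dt_fix {q : α × α × α × α} {x : α} (hx : x ∉ flat4 [q]) : dt q x = x := by
  simp only [flat4, List.flatMap_cons, List.flatMap_nil, List.append_nil, List.mem_cons, List.not_mem_nil,
    or_false, not_or] at hx
  obtain ⟨h1, h2, h3, h4⟩ := hx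
  simp [dt, swap_apply_of_ne_of_ne h3 h4, swap_apply_of_ne_of_ne h1 h2]

theorem prod_fix : ∀ (l : List (α × α × α × α)) {x : α}, x ∉ flat4 l → (l.map dt).prod x = x
  | [], x, _ => rfl
  | q :: l, x, hx => by
    simp only [flat4, List.flatMap_cons, List.mem_append, not_or] at hx
    rw [List.map_cons, List.prod_cons, Perm.mul_apply, prod_fix l hx.2]
    exact dt_fix (by simpa [flat4] using hx.1)

variable [Fintype α]

theorem dt_mem (q : α × α × α × α) (h : (flat4 [q]).Nodup) : dt q ∈ alternatingGroup α := by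
  simp only [flat4, List.flatMap_cons, List.flatMap_nil, List.append_nil, List.nodup_cons, List.mem_cons,
    List.not_mem_nil, or_false, not_or] at h
  obtain ⟨⟨h12, -, -⟩, -, h34, -⟩ := h
  rw [Perm.mem_alternatingGroup, dt, map_mul, Perm.sign_swap h12, Perm.sign_swap h34]
  rfl

theorem dt_cycleType (q : α × α × α × α) (h : (flat4 [q]).Nodup) : (dt q).cycleType = {2, 2} := by
  simp only [flat4, List.flatMap_cons, List.flatMap_nil, List.append_nil, List.nodup_cons, List.mem_cons,
    List.not_mem_nil, or_false, not_or] at h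
  obtain ⟨⟨h12, h13, h14⟩, ⟨h23, h24⟩, h34, -⟩ := h
  have hd : Perm.Disjoint (swap q.1 q.2.1) (swap q.2.2.1 q.2.2.2) := by
    intro x
    by_cases hx : x = q.1 ∨ x = q.2.1
    · right
      rcases hx with rfl | rfl
      · exact swap_apply_of_ne_of_ne h13 h14
      · exact swap_apply_of_ne_of_ne h23 h24
    · left
      push Not at hx
      exact swap_apply_of_ne_of_ne hx.1 hx.2
  rw [dt, hd.cycleType_mul, (Perm.isCycle_swap h12).cycleType, (Perm.isCycle_swap h34).cycleType,
    Perm.card_support_swap h12, Perm.card_support_swap h34]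
  rfl

theorem dt_conj {q q' : α × α × α × α} (h : (flat4 [q]).Nodup) (h' : (flat4 [q']).Nodup) :
    ∃ σ ∈ alternatingGroup α, σ * dt q * σ⁻¹ = dt q' := by
  obtain ⟨σ, hσ⟩ := isConj_iff.1 (Perm.isConj_iff_cycleType_eq.2 ((dt_cycleType q h).trans (dt_cycleType q' h').symm))
  rcases Int.units_eq_one_or (Perm.sign σ) with hs | hs
  · exact ⟨σ, Perm.mem_alternatingGroup.2 hs, hσ⟩
  · simp only [flat4, List.flatMap_cons, List.flatMap_nil, List.append_nil, List.nodup_cons, List.mem_cons,
      List.not_mem_nil, or_false, not_or] at h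
    obtain ⟨⟨h12, h13, h14⟩, ⟨h23, h24⟩, h34, -⟩ := h
    refine ⟨σ * swap q.1 q.2.1, ?_, ?_⟩
    · rw [Perm.mem_alternatingGroup, map_mul, hs, Perm.sign_swap h12]; rfl
    · have hc : swap q.1 q.2.1 * dt q * (swap q.1 q.2.1)⁻¹ = dt q := by
        have hd : Commute (swap q.1 q.2.1) (swap q.2.2.1 q.2.2.2) := by
          refine Perm.Disjoint.commute fun x => ?_
          by_cases hx : x = q.1 ∨ x = q.2.1
          · right
            rcases hx with rfl | rfl
            · exact swap_apply_of_ne_of_ne h13 h14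
            · exact swap_apply_of_ne_of_ne h23 h24
          · left
            push Not at hx
            exact swap_apply_of_ne_of_ne hx.1 hx.2
        rw [mul_inv_eq_iff_eq_mul, dt, mul_assoc (swap q.1 q.2.1) (swap q.2.2.1 q.2.2.2), ← hd.eq]
      calc σ * swap q.1 q.2.1 * dt q * (σ * swap q.1 q.2.1)⁻¹
          = σ * (swap q.1 q.2.1 * dt q * (swap q.1 q.2.1)⁻¹) * σ⁻¹ := by group
        _ = dt q' := by rw [hc, hσ]

section Main

variable {m : ℕ} {Γ : Type} [Group Γ] [Finite Γ] {z : Γ} (hzc : z ∈ Subgroup.center Γ) (hz : orderOf z = 2)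
  (hd : z ∈ commutator Γ) {π : Γ →* alternatingGroup (Fin (m + 2))} (hπ : Function.Surjective π)
  (hker : π.ker = Subgroup.zpowers z)

include hzc hz hd hπ hker in
/-- Some double transposition has lifts of order four. -/
theorem exists_dt_four : ∃ q : Fin (m + 2) × Fin (m + 2) × Fin (m + 2) × Fin (m + 2),
    (flat4 [q]).Nodup ∧ ∀ x : Γ, (π x : Perm (Fin (m + 2))) = dt q → x * x = z := by
  by_contra hcon
  push Not at hcon
  classical
  have hall : ∀ x : Γ, ∀ q, (flat4 [q]).Nodup → (π x : Perm (Fin (m + 2))) = dt q → x * x = 1 := by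
    intro x q hq hx
    obtain ⟨y, hy, hne⟩ := hcon q hq
    have hk : π (y⁻¹ * x) = 1 := Subtype.ext (by simp [hx, hy])
    have hyy : π (y * y) = 1 := Subtype.ext (by
      simp only [map_mul, Subgroup.coe_mul, hy, Subgroup.coe_one]
      have := dt_cycleType q hq
      have h2 : orderOf (dt q) = 2 := by rw [← Perm.lcm_cycleType, this]; rfl
      have h3 := pow_orderOf_eq_one (dt q)
      rw [h2, pow_two] at h3
      exact h3)
    have h1 : y * y = 1 := (ker_cases hz hker hyy).resolve_right hne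
    rcases ker_cases hz hker hk with h | h
    · rw [inv_mul_eq_one.1 h] at h1; exact h1
    · rw [inv_mul_eq_iff_eq_mul.1 h, mul_assoc, ← mul_assoc z y z, ← Subgroup.mem_center_iff.1 hzc y,
        mul_assoc y z z, ← pow_two z, ← hz, pow_orderOf_eq_one, mul_one, h1]
  have hlift : ∀ i, ∃ x : Γ, i < m → (π x : Perm (Fin (m + 2))) = cyc m i ∧ x ^ 3 = 1 := by
    intro i
    by_cases hi : i < m
    · obtain ⟨h3, hA⟩ := (cyc_props m).1 i hi
      obtain ⟨x, hx⟩ := hπ ⟨cyc m i, hA⟩
      refine ⟨x ^ 4, fun _ => ⟨?_, ?_⟩⟩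
      · rw [map_pow, hx, SubmonoidClass.coe_pow, pow_succ, h3, one_mul]
      · have hk : π (x ^ 3) = 1 := Subtype.ext (by rw [map_pow, hx, SubmonoidClass.coe_pow, h3]; rfl)
        have h2 : (x ^ 3) ^ 2 = 1 := by
          rcases ker_cases hz hker hk with h | h <;> rw [h]
          · simp
          · rw [← hz]; exact pow_orderOf_eq_one z
        rw [← pow_mul, show 4 * 3 = (3 * 2) * 2 from rfl, pow_mul, pow_mul, h2, one_pow]
    · exact ⟨1, fun h => absurd h hi⟩
  choose X hX using hlift
  have hcard := pres_card X m (fun i hi => (hX i hi).2) fun i hi j hj hij => by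
    rw [pow_two]
    refine hall _ ((0 : Fin (m + 2)), ⟨i + 2, by omega⟩, 1, ⟨j + 2, by omega⟩) ?_ ?_
    · simp [flat4, Fin.ext_iff, hij]
    · rw [map_mul, Subgroup.coe_mul, (hX i hi).1, (hX j hj).1]
      rw [cyc, dif_pos hi, cyc, dif_pos hj, dt]
      set a : Fin (m + 2) := ⟨i + 2, by omega⟩
      set b : Fin (m + 2) := ⟨j + 2, by omega⟩
      have hb0 : b ≠ 0 := by simp [b, Fin.ext_iff]
      have hb1 : b ≠ 1 := by simp [b, Fin.ext_iff]
      have h01 : (0 : Fin (m + 2)) ≠ 1 := by simp [Fin.ext_iff]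
      rw [mul_assoc, show swap (0 : Fin (m + 2)) 1 * (swap 0 b * swap 0 1) = swap 1 b from by
        rw [← mul_assoc]
        conv_lhs => rw [show swap (0 : Fin (m + 2)) 1 * swap 0 b * swap 0 1 =
          swap 0 1 * swap 0 b * (swap 0 1)⁻¹ by rw [swap_inv]]
        rw [← swap_apply_apply, swap_apply_left, swap_apply_of_ne_of_ne hb0 hb1]]
  set L := Subgroup.closure (X '' {i | i < m}) with hL
  have htop : L.map π = ⊤ := by
    rw [eq_top_iff]
    intro a _
    have hle : alternatingGroup (Fin (m + 2)) ≤ (L.map π).map (alternatingGroup (Fin (m + 2))).subtype := by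
      refine (cyc_gen m).trans ?_
      rw [Subgroup.closure_le]
      rintro _ ⟨i, hi, rfl⟩
      exact ⟨π (X i), ⟨X i, Subgroup.subset_closure ⟨i, hi, rfl⟩, rfl⟩, (hX i hi).1⟩
    obtain ⟨b, hb, hb'⟩ := hle a.2
    rwa [show a = b from Subtype.ext hb'.symm]
  have hinj : ∀ g : L, π g = 1 → g = 1 := by
    have hA : Nat.card L ≤ Nat.card (alternatingGroup (Fin (m + 2))) := by
      have := card_alt m
      omega
    have hs : Function.Surjective (π.comp L.subtype) := fun a => by
      obtain ⟨l, hl, rfl⟩ : a ∈ L.map π := htop ▸ Subgroup.mem_top a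
      exact ⟨⟨l, hl⟩, rfl⟩
    have hb := (Nat.bijective_iff_surjective_and_card _).2
      ⟨hs, le_antisymm hA (Nat.card_le_card_of_surjective _ hs)⟩
    exact fun g hg => hb.1 (hg.trans (map_one _).symm)
  have hdec : ∀ g : Γ, ∃ l ∈ L, ∃ k, π k = 1 ∧ g = l * k := fun g => by
    obtain ⟨l, hl, hlg⟩ : π g ∈ L.map π := htop ▸ Subgroup.mem_top _
    exact ⟨l, hl, l⁻¹ * g, by rw [map_mul, map_inv, hlg, inv_mul_cancel], by group⟩
  have hcomm : commutator Γ ≤ L := by
    rw [_root_.commutator_def, Subgroup.commutator_le]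
    intro g _ g' _
    obtain ⟨l, hl, k, hk, rfl⟩ := hdec g
    obtain ⟨l', hl', k', hk', rfl⟩ := hdec g'
    have c := ker_central hzc hz hker hk
    have c' := ker_central hzc hz hker hk'
    have e : ⁅l * k, l' * k'⁆ = ⁅l, l'⁆ := by
      simp only [commutatorElement_def]
      calc l * k * (l' * k') * (l * k)⁻¹ * (l' * k')⁻¹
          = l * (k * l') * k' * k⁻¹ * l⁻¹ * k'⁻¹ * l'⁻¹ := by group
        _ = l * l' * (k * k') * k⁻¹ * l⁻¹ * k'⁻¹ * l'⁻¹ := by rw [← c l']; group
        _ = l * l' * (k' * l⁻¹) * k'⁻¹ * l'⁻¹ := by rw [c' k]; group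
        _ = _ := by rw [← c' l⁻¹]; group
    rw [e, commutatorElement_def]
    exact mul_mem (mul_mem (mul_mem hl hl') (inv_mem hl)) (inv_mem hl')
  have hzk : π z = 1 := MonoidHom.mem_ker.1 (hker ▸ Subgroup.mem_zpowers z)
  have h1 : z = 1 := congrArg Subtype.val (hinj ⟨z, hcomm hd⟩ hzk)
  rw [h1, orderOf_one] at hz
  omega

include hzc hz hd hπ hker in
theorem dt_lift_sq {q : Fin (m + 2) × Fin (m + 2) × Fin (m + 2) × Fin (m + 2)} (hq : (flat4 [q]).Nodup)
    {x : Γ} (hx : (π x : Perm (Fin (m + 2))) = dt q) : x * x = z := by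
  obtain ⟨q₀, h₀, hsq⟩ := exists_dt_four hzc hz hd hπ hker
  obtain ⟨σ, hσ, he⟩ := dt_conj hq h₀
  obtain ⟨s, hs⟩ := hπ ⟨σ, hσ⟩
  have h := hsq (s * x * s⁻¹) (by simp [hs, hx, he])
  calc x * x = s⁻¹ * (s * x * s⁻¹ * (s * x * s⁻¹)) * s := by group
    _ = z := by rw [h, Subgroup.mem_center_iff.1 hzc s⁻¹, inv_mul_cancel_right]

include hzc hz hd hπ hker in
theorem prod_lift_sq : ∀ (l : List (Fin (m + 2) × Fin (m + 2) × Fin (m + 2) × Fin (m + 2))),
    (flat4 l).Nodup → ∀ x : Γ, (π x : Perm (Fin (m + 2))) = (l.map dt).prod → x * x = z ^ l.length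
  | [], _, x, hx => by
    have hk : π x = 1 := Subtype.ext hx
    have hz2 : z * z = 1 := by rw [← pow_two, ← hz]; exact pow_orderOf_eq_one z
    rcases ker_cases hz hker hk with h | h <;> rw [h]
    · simp
    · simpa using hz2
  | q :: l, hn, x, hx => by
    have hn' : (flat4 [q] ++ flat4 l).Nodup := by simpa [flat4] using hn
    obtain ⟨hq, hl, hdisj⟩ := List.nodup_append'.1 hn'
    obtain ⟨a, ha⟩ := hπ ⟨dt q, dt_mem q hq⟩
    have ha' : (π a : Perm (Fin (m + 2))) = dt q := by rw [ha]
    set t := a⁻¹ * x with ht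
    have ht' : (π t : Perm (Fin (m + 2))) = (l.map dt).prod := by
      rw [ht, map_mul, map_inv, Subgroup.coe_mul, Subgroup.coe_inv, ha', hx, List.map_cons, List.prod_cons,
        inv_mul_cancel_left]
    obtain ⟨q1, q2, q3, q4⟩ := q
    simp only [flat4, List.flatMap_cons, List.flatMap_nil, List.append_nil, List.nodup_cons, List.mem_cons,
      List.not_mem_nil, or_false, not_or] at hq
    obtain ⟨⟨h12, h13, h14⟩, ⟨h23, h24⟩, h34, -⟩ := hq
    have hfix : ∀ y ∈ ([q1, q2, q3, q4] : List (Fin (m + 2))), (l.map dt).prod y = y := fun y hy =>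
      prod_fix l (List.disjoint_left.1 hdisj (by simpa [flat4] using hy))
    have hsc : ∀ u v, u ∈ ([q1, q2, q3, q4] : List (Fin (m + 2))) → v ∈ ([q1, q2, q3, q4] : List (Fin (m + 2))) →
        (l.map dt).prod * swap u v = swap u v * (l.map dt).prod := fun u v hu hv => by
      conv_rhs => rw [← hfix u hu, ← hfix v hv, swap_apply_apply]
      group
    -- the two three-cycles
    have hA : ∀ u v w, u ∈ ([q1, q2, q3, q4] : List (Fin (m + 2))) → v ∈ ([q1, q2, q3, q4] : List (Fin (m + 2))) →
        w ∈ ([q1, q2, q3, q4] : List (Fin (m + 2))) → u ≠ v → u ≠ w → v ≠ w →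
        ∃ c : Γ, (π c : Perm (Fin (m + 2))) = swap u v * swap u w ∧ c * t = t * c := by
      intro u v w hu hv hw huv huw hvw
      have h3 := Perm.isThreeCycle_swap_mul_swap_same huv huw hvw
      obtain ⟨c, hc⟩ := hπ ⟨_, Perm.mem_alternatingGroup.2 h3.sign⟩
      refine ⟨c, by rw [hc], lift_comm_three hzc hz hker (Subtype.ext ?_) (Subtype.ext ?_)⟩
      · rw [SubmonoidClass.coe_pow, hc, ← h3.orderOf]; exact pow_orderOf_eq_one _
      · rw [Subgroup.coe_mul, Subgroup.coe_mul, hc, ht']
        show swap u v * swap u w * _ = _ * (swap u v * swap u w)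
        rw [mul_assoc, ← hsc u w hu hw, ← mul_assoc, ← hsc u v hu hv, mul_assoc]
    obtain ⟨c, hc, hct⟩ := hA q2 q1 q3 (by simp) (by simp) (by simp) (Ne.symm h12) h23 h13
    obtain ⟨e, he, het⟩ := hA q3 q2 q4 (by simp) (by simp) (by simp) (Ne.symm h23) h34 h24
    have hk : π ((c * e)⁻¹ * a) = 1 := Subtype.ext (by
      rw [map_mul, map_inv, map_mul, Subgroup.coe_mul, Subgroup.coe_inv, Subgroup.coe_mul, hc, he, ha',
        Subgroup.coe_one, inv_mul_eq_one, dt]
      show swap q2 q1 * swap q2 q3 * (swap q3 q2 * swap q3 q4) = swap q1 q2 * swap q3 q4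
      rw [swap_comm q3 q2, mul_assoc, swap_mul_self_mul, swap_comm q2 q1])
    have hat : a * t = t * a := by
      have hw := ker_central hzc hz hker hk t
      calc a * t = c * (e * (((c * e)⁻¹ * a) * t)) := by group
        _ = c * (e * t) * ((c * e)⁻¹ * a) := by rw [← hw]; group
        _ = t * (c * e) * ((c * e)⁻¹ * a) := by rw [het, ← mul_assoc c t, hct]; group
        _ = t * a := by group
    have hxat : x = a * t := by rw [ht]; group
    rw [hxat, List.length_cons, pow_succ', ← prod_lift_sq l hl t ht',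
      ← dt_lift_sq hzc hz hd hπ hker (q := (q1, q2, q3, q4))
        (by simp [flat4, h12, h13, h14, h23, h24, h34]) ha']
    calc a * t * (a * t) = a * (t * a) * t := by group
      _ = _ := by rw [← hat]; group

end Main

end Cfsg.Agent.HSMult
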