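import Cfsg.Agent.Lib.HSMult.Data
import Cfsg.Agent.Lib.Steiner.HSGraphCheck

/-! Kernel checks for the Schur multiplier of the Higman-Sims group. -/

set_option autoImplicit false
set_option maxRecDepth 20000
set_option maxHeartbeats 2000000

namespace Cfsg.Agent.HSMult

open Cfsg.Agent.StemCert Cfsg.Agent.Steiner.HSGraph

/-- The image of a point. -/
def app (P x : ℕ) : ℕ := Nat.shiftRight P (8 * x) % 256

/-- An element: the product of two squares of automorphisms. -/
def eltRun (q : ℕ × ℕ) (x : ℕ) : ℕ :=
  app (auts.getD q.1 0) (app (auts.getD q.1 0) (app (auts.getD q.2 0) (app (auts.getD q.2 0) x)))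

/-- A word in elements. -/
def run (gs : List (ℕ × ℕ)) : List ℕ → ℕ → ℕ
  | [], x => x
  | i :: w, x => eltRun (gs.getD i (0, 0)) (run gs w x)

/-- The table of neighbours is that of the configuration. -/
def adjOk : Bool :=
  (List.range 100).all fun x => (List.range 100).all fun y =>
    Nat.testBit (adjN.getD x 0) y == decide (LeechCount.dotL (hsAll.getD x []) (hsAll.getD y []) = 8)

/-- A packed permutation is an automorphism. -/
def autOk (P : ℕ) : Bool :=
  ((List.range 100).all fun x => Nat.blt (app P x) 100) && decide ((List.range 100).map (app P)).Nodup &&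
    (List.range 100).all fun x =>
      let a := adjN.getD (app P x) 0
      let b := adjN.getD x 0
      (List.range 100).all fun y => Nat.testBit a (app P y) == Nat.testBit b y

/-- All pairs name automorphisms. -/
def pairsOk (l : List (ℕ × ℕ)) : Bool :=
  l.all fun q => Nat.blt q.1 auts.length && Nat.blt q.2 auts.length

/-- The identities in the group. -/
def groupOk (C : Cert) (gs cs : List (ℕ × ℕ)) (pts : List ℕ) : Bool :=
  pairsOk (gs ++ cs) && pts.all (fun x => Nat.blt x 100) && Nat.beq gs.length C.m &&
  C.rels.all (fun r => (List.range 100).all fun x => Nat.beq (run gs r.1 x) (run gs r.2 x)) &&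
  C.slots.all (fun s => Nat.blt s.1 cs.length && (List.range 100).all fun x =>
    Nat.beq (eltRun (cs.getD s.1 (0, 0)) (run gs (C.lets s.2.1) x))
      (run gs (C.lets s.2.2) (eltRun (cs.getD s.1 (0, 0)) x))) &&
  decide ((List.range C.N).map fun e => pts.map (run gs (C.lets e))).Nodup

theorem check5 : cert5.shapeOk = true ∧ cert5.tabOk = true ∧ cert5.linOk = true ∧
    groupOk cert5 gens5 conj5 pts5 = true ∧ cert5.c = 0 ∧ cert5.N = 125 ∧ cert5.n = 5 := by decide +kernel

theorem check3 : cert3.shapeOk = true ∧ cert3.tabOk = true ∧ cert3.linOk = true ∧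
    groupOk cert3 gens3 conj3 pts3 = true ∧ cert3.c = 0 ∧ cert3.N = 9 ∧ cert3.n = 3 := by decide +kernel

theorem check2_shape : cert2.shapeOk = true ∧ cert2.boundOk 2 = true ∧ cert2.N = 512 ∧ cert2.n = 4 := by
  decide +kernel

theorem check2_tab : cert2.tabOk = true := by decide +kernel

theorem check2_lin : cert2.linOk = true := by decide +kernel

theorem check2_group : groupOk cert2 gens2 conj2 pts2 = true := by decide +kernel

theorem auts_ok : auts.all autOk = true := by decide +kernel

theorem adjN_ok : adjOk = true := by decide +kernel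

end Cfsg.Agent.HSMult
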