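import Cfsg.Agent.Lib.HSMult.Check
import Cfsg.Agent.Lib.HSMult.AltLift
import Cfsg.Agent.Lib.StemCert.Bound
import Cfsg.Agent.Lib.SchurSplit.SmallMain
import Cfsg.Agent.Lib.Steiner.HSOut

/-!
The Schur multiplier of the group of the Higman-Sims configuration has order two: the bound comes from
certificates at the primes two, three and five, the cover from the double cover of the alternating group
of the hundred vertices.
-/

set_option autoImplicit false
set_option maxRecDepth 20000
set_option maxHeartbeats 1000000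
set_option linter.style.haveILetI false

namespace Cfsg.Agent.HSMult

open Cfsg.Agent.StemCert Cfsg.Agent.Steiner.HSGraph
open scoped commutatorElement

noncomputable section

theorem hsAll_length : hsAll.length = 100 := by decide +kernel

theorem pos_lt (x : Vtx) : pos x < 100 := hsAll_length ▸ (code_eq x).1

/-- The vertices, numbered. -/
def posE : Vtx ≃ Fin 100 :=
  Equiv.ofBijective (fun x => (⟨pos x, pos_lt x⟩ : Fin 100))
    (haveI : Finite Vtx := Nat.finite_of_card_ne_zero (by rw [card_Vtx]; norm_num)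
     (Nat.bijective_iff_injective_and_card _).2
      ⟨fun a b h => pos_inj (congrArg Fin.val h), by rw [card_Vtx, Nat.card_fin]⟩)

theorem posE_val (x : Vtx) : (posE x : ℕ) = pos x := rfl

theorem adj_pos (x y : Vtx) :
    (pointBlockGraph stdB).Adj x y ↔ Nat.testBit (adjN.getD (pos x) 0) (pos y) = true := by
  have h := adjN_ok
  simp only [adjOk, List.all_eq_true, List.mem_range, beq_iff_eq] at h
  rw [h _ (pos_lt x) _ (pos_lt y), decide_eq_true_eq, adj_iff_dot, (code_eq x).2, (code_eq y).2]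

/-- A function on numbers describes an automorphism. -/
def Rep (F : ℕ → ℕ) (f : GAut) : Prop := ∀ x, F (pos x) = pos (f x)

theorem rep_comp {F G : ℕ → ℕ} {f g : GAut} (hF : Rep F f) (hG : Rep G g) : Rep (fun x => F (G x)) (f * g) :=
  fun x => by
    show F (G (pos x)) = pos (f (g x))
    rw [hG x, hF]

theorem rep_id : Rep (fun x => x) 1 := fun _ => rfl

theorem rep_unique {F G : ℕ → ℕ} {f g : GAut} (hF : Rep F f) (hG : Rep G g) (h : ∀ x < 100, F x = G x) :
    f = g := RelIso.ext fun x => pos_inj (by rw [← hF x, ← hG x, h _ (pos_lt x)])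

theorem rep_eq {F G : ℕ → ℕ} {f : GAut} (hF : Rep F f) (hG : Rep G f) {x : ℕ} (hx : x < 100) : F x = G x := by
  obtain ⟨v, hv⟩ := posE.surjective ⟨x, hx⟩
  have : pos v = x := congrArg Fin.val hv
  rw [← this, hF v, hG v]

theorem exists_aut {P : ℕ} (h : autOk P = true) : ∃ f : GAut, Rep (app P) f := by
  simp only [autOk, Bool.and_eq_true, List.all_eq_true, List.mem_range, Nat.blt_eq, decide_eq_true_eq,
    beq_iff_eq] at h
  obtain ⟨⟨hlt, hnd⟩, hadj⟩ := h
  let F : Fin 100 → Fin 100 := fun x => ⟨app P x, hlt x x.2⟩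
  have hF : Function.Injective F := fun a b hab => Fin.ext
    (List.inj_on_of_nodup_map hnd (List.mem_range.2 a.2) (List.mem_range.2 b.2) (congrArg Fin.val hab))
  let e : Vtx ≃ Vtx := posE.trans ((Equiv.ofBijective F (Finite.injective_iff_bijective.1 hF)).trans posE.symm)
  have he : ∀ x, pos (e x) = app P (pos x) := fun x => by
    rw [← posE_val]
    show ((posE (posE.symm (F (posE x))) : Fin 100) : ℕ) = _
    rw [Equiv.apply_symm_apply]
    rfl
  refine ⟨⟨e, fun {x y} => ?_⟩, fun x => (he x).symm⟩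
  rw [adj_pos, adj_pos, he, he, hadj _ (pos_lt x) _ (pos_lt y)]

theorem sq_mem (f : GAut) : f * f ∈ hsH := Subgroup.mul_self_mem_of_index_two hsH_index f

theorem exists_elt {q : ℕ × ℕ} (h1 : q.1 < auts.length) (h2 : q.2 < auts.length) :
    ∃ f : hsH, Rep (eltRun q) f.1 := by
  have hok := auts_ok
  rw [List.all_eq_true] at hok
  obtain ⟨a, ha⟩ := exists_aut (hok (auts.getD q.1 0) (by
    rw [List.getD_eq_getElem _ _ h1]; exact List.getElem_mem _))
  obtain ⟨b, hb⟩ := exists_aut (hok (auts.getD q.2 0) (by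
    rw [List.getD_eq_getElem _ _ h2]; exact List.getElem_mem _))
  refine ⟨⟨a * a * (b * b), mul_mem (sq_mem a) (sq_mem b)⟩, ?_⟩
  exact fun x => rep_comp (rep_comp ha ha) (rep_comp hb hb) x

theorem rep_run {gs : List (ℕ × ℕ)} {g : ℕ → hsH}
    (hg : ∀ i < gs.length, Rep (eltRun (gs.getD i (0, 0))) (g i).1) :
    ∀ w : List ℕ, (∀ i ∈ w, i < gs.length) → Rep (run gs w) ((w.map g).prod).1
  | [], _ => rep_id
  | i :: w, hw => by
    rw [List.map_cons, List.prod_cons]
    exact fun x => rep_comp (hg i (hw i List.mem_cons_self))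
      (rep_run hg w fun j hj => hw j (List.mem_cons_of_mem _ hj)) x

theorem card_hsH : Nat.card hsH = 44352000 := isHS_range.2

theorem finite_hsH : Finite hsH := Nat.finite_of_card_ne_zero (by rw [card_hsH]; norm_num)

attribute [local instance] finite_hsH

/-- The bound from a certificate. -/
theorem cert_bound (C : Cert) (gs cs : List (ℕ × ℕ)) (pts : List ℕ) (hshape : C.shapeOk = true)
    (htab : C.tabOk = true) (hlin : C.linOk = true) (hgr : groupOk C gs cs pts = true)
    (hco : Nat.Coprime C.n (44352000 / C.N))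
    {Γ : Type} [Group Γ] [Finite Γ] (π : Γ →* hsH) (hπ : Function.Surjective π)
    (hc : π.ker ≤ Subgroup.center Γ) (hd : π.ker ≤ commutator Γ) (hexp : ∀ z ∈ π.ker, z ^ C.n = 1) :
    ∃ cv : Γ, π.ker ≤ Subgroup.zpowers cv ∧ (C.c = 0 → cv = 1) ∧ (∀ k, C.boundOk k = true → cv ^ k = 1) := by
  classical
  simp only [groupOk, pairsOk, Bool.and_eq_true, List.all_eq_true, List.mem_range, decide_eq_true_eq,
    Nat.blt_eq] at hgr
  obtain ⟨⟨⟨⟨⟨hpairs, hpts⟩, hlen⟩, hrel⟩, hslot⟩, hnd⟩ := hgr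
  have hlen' : gs.length = C.m := Nat.eq_of_beq_eq_true hlen
  obtain ⟨-, -, hrels, hslots, -, -⟩ := Cert.shape hshape
  have hex : ∀ (l : List (ℕ × ℕ)) (_ : ∀ q ∈ l, q ∈ gs ++ cs) (i : ℕ),
      ∃ f : hsH, i < l.length → Rep (eltRun (l.getD i (0, 0))) f.1 := by
    intro l hl i
    by_cases hi : i < l.length
    · obtain ⟨h1, h2⟩ := hpairs (l.getD i (0, 0)) (hl _ (by
        rw [List.getD_eq_getElem _ _ hi]; exact List.getElem_mem _))
      obtain ⟨f, hf⟩ := exists_elt h1 h2
      exact ⟨f, fun _ => hf⟩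
    · exact ⟨1, fun h => absurd h hi⟩
  choose g hg using hex gs (fun q hq => List.mem_append_left _ hq)
  choose γ hγ using hex cs (fun q hq => List.mem_append_right _ hq)
  have hrun : ∀ w : List ℕ, (∀ i ∈ w, i < C.m) → Rep (run gs w) ((w.map g).prod).1 :=
    fun w hw => rep_run hg w fun i hi => by rw [hlen']; exact hw i hi
  have hlets : ∀ e, Rep (run gs (C.lets e)) (C.sP g e).1 := fun e => hrun _ fun i hi => Cert.lets_lt hi
  refine ker_le_of_cert C hshape htab hlin g γ ?_ ?_ ?_ ?_ π hπ hc hd hexp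
  · intro r hr
    have hm : C.rel r ∈ C.rels := by
      rw [Cert.rel, List.getD_eq_getElem _ _ hr]; exact List.getElem_mem _
    exact Subtype.ext (rep_unique (hrun _ fun i hi => hrels _ hm i (List.mem_append_left _ hi))
      (hrun _ fun i hi => hrels _ hm i (List.mem_append_right _ hi))
      fun x hx => Nat.eq_of_beq_eq_true (hrel _ hm x hx))
  · intro s hs
    obtain ⟨h1, h2⟩ := hslot (C.slot s) (by
      rw [Cert.slot, List.getD_eq_getElem _ _ hs]; exact List.getElem_mem _)
    exact Subtype.ext (rep_unique (rep_comp (hγ _ h1) (hlets _)) (rep_comp (hlets _) (hγ _ h1))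
      fun x hx => Nat.eq_of_beq_eq_true (h2 x hx))
  · intro e he f hf hef
    refine List.inj_on_of_nodup_map hnd (List.mem_range.2 he) (List.mem_range.2 hf) ?_
    exact List.map_congr_left fun x hx => rep_eq (hlets e) (hef ▸ hlets f) (hpts x hx)
  · intro H hH
    have h := Subgroup.card_mul_index H
    rw [hH, card_hsH] at h
    rw [← h, Nat.mul_div_cancel_left _ (hH ▸ Nat.card_pos)] at hco
    exact hco

theorem noKer_odd : ∀ p, p.Prime → p ≠ 2 → NoKer hsH p := by
  intro p hp hp2 E _ _ π hπ hc hd hcard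
  by_cases hsq : p ^ 2 ∣ Nat.card hsH
  swap
  · exact SchurSplit.noExt_of_sq_not_dvd hp hsq E π hπ hc hcard hd
  rw [card_hsH] at hsq
  have hexp : ∀ z ∈ π.ker, z ^ p = 1 := fun z hz => by
    have h := pow_card_eq_one' (x := (⟨z, hz⟩ : π.ker))
    rw [hcard] at h
    simpa [Subtype.ext_iff] using h
  have hp35 : p = 3 ∨ p = 5 := by
    have h0 : p ∣ 2 ^ 9 * (3 ^ 2 * (5 ^ 3 * (7 * 11))) :=
      (dvd_pow_self p two_ne_zero).trans (by norm_num; exact hsq)
    have key : ∀ q : ℕ, q.Prime → ∀ k, p ∣ q ^ k → p = q := fun q hq k h =>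
      (Nat.prime_dvd_prime_iff_eq hp hq).1 (hp.dvd_of_dvd_pow h)
    rcases hp.dvd_mul.1 h0 with h | h
    · exact absurd (key 2 Nat.prime_two 9 h) hp2
    rcases hp.dvd_mul.1 h with h | h
    · exact Or.inl (key 3 Nat.prime_three 2 h)
    rcases hp.dvd_mul.1 h with h | h
    · exact Or.inr (key 5 Nat.prime_five 3 h)
    rcases hp.dvd_mul.1 h with h | h
    · exact absurd ((Nat.prime_dvd_prime_iff_eq hp (by norm_num)).1 h ▸ hsq : (7 : ℕ) ^ 2 ∣ 44352000) (by norm_num)
    · exact absurd ((Nat.prime_dvd_prime_iff_eq hp (by norm_num)).1 h ▸ hsq : (11 : ℕ) ^ 2 ∣ 44352000) (by norm_num)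
  have key : ∀ cv : E, π.ker ≤ Subgroup.zpowers cv → cv = 1 → False := by
    intro cv hle h1
    rw [h1, Subgroup.zpowers_one_eq_bot, le_bot_iff] at hle
    rw [hle, Subgroup.card_bot] at hcard
    exact hp.one_lt.ne hcard
  rcases hp35 with rfl | rfl
  · obtain ⟨h1, h2, h3, h4, h5, hN, hn⟩ := check3
    obtain ⟨cv, hle, h0, -⟩ := cert_bound cert3 gens3 conj3 pts3 h1 h2 h3 h4
      (by rw [hn, hN]; decide +kernel) π hπ hc hd (by rw [hn]; exact hexp)
    exact key cv hle (h0 h5)
  · obtain ⟨h1, h2, h3, h4, h5, hN, hn⟩ := check5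
    obtain ⟨cv, hle, h0, -⟩ := cert_bound cert5 gens5 conj5 pts5 h1 h2 h3 h4
      (by rw [hn, hN]; decide +kernel) π hπ hc hd (by rw [hn]; exact hexp)
    exact key cv hle (h0 h5)

theorem noKer_four : NoKer hsH 4 := by
  intro E _ _ π hπ hc hd hcard
  have hexp : ∀ z ∈ π.ker, z ^ 4 = 1 := fun z hz => by
    have h := pow_card_eq_one' (x := (⟨z, hz⟩ : π.ker))
    rw [hcard] at h
    simpa [Subtype.ext_iff] using h
  obtain ⟨h1, h5, hN, hn⟩ := check2_shape
  obtain ⟨cv, hle, -, h0⟩ := cert_bound cert2 gens2 conj2 pts2 h1 check2_tab check2_lin check2_group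
    (by rw [hn, hN]; decide +kernel) π hπ hc hd (by rw [hn]; exact hexp)
  have hcard2 := Subgroup.card_le_of_le hle
  rw [Nat.card_zpowers, hcard] at hcard2
  have := orderOf_le_of_pow_eq_one (by norm_num) (h0 2 h5)
  omega

/-- A pair of transpositions of the involution. -/
def quadF (q : ℕ × ℕ × ℕ × ℕ) : Fin 100 × Fin 100 × Fin 100 × Fin 100 :=
  (Fin.ofNat 100 q.1, Fin.ofNat 100 q.2.1, Fin.ofNat 100 q.2.2.1, Fin.ofNat 100 q.2.2.2)

theorem invo_check : invo.1 < auts.length ∧ invo.2 < auts.length ∧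
    (∀ x : Fin 100, eltRun invo (eltRun invo x) = x) ∧
    (∀ x : Fin 100, eltRun invo x = ((((quads.map quadF).map dt).prod : Equiv.Perm (Fin 100)) x : ℕ)) ∧
    (flat4 (quads.map quadF)).Nodup ∧ quads.length = 25 := by decide +kernel

/-- The action on the numbered vertices. -/
def psi : hsH →* Equiv.Perm (Fin 100) where
  toFun g := posE.permCongr g.1.toEquiv
  map_one' := Equiv.ext fun x => posE.apply_symm_apply x
  map_mul' a b := Equiv.ext fun x => by
    show posE (a.1 (b.1 (posE.symm x))) = posE (a.1 (posE.symm (posE (b.1 (posE.symm x)))))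
    rw [Equiv.symm_apply_apply]

theorem psi_mem (g : hsH) : psi g ∈ alternatingGroup (Fin 100) := by
  haveI := isHS_range.1
  rw [Equiv.Perm.mem_alternatingGroup]
  show (Equiv.Perm.sign.comp psi) g = 1
  rcases Subgroup.Normal.eq_bot_or_eq_top (H := (Equiv.Perm.sign.comp psi).ker) inferInstance with h | h
  · exfalso
    have hle := Nat.card_le_card_of_injective _ ((MonoidHom.ker_eq_bot_iff _).1 h)
    rw [card_hsH, Nat.card_eq_fintype_card, Fintype.card_units_int] at hle
    omega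
  · exact MonoidHom.mem_ker.1 (h ▸ Subgroup.mem_top g)

theorem hsH_perfect : commutator hsH = ⊤ := by
  haveI := isHS_range.1
  rcases Subgroup.Normal.eq_bot_or_eq_top (H := commutator hsH) inferInstance with h | h
  · exfalso
    haveI : IsMulCommutative hsH := ⟨⟨fun a b => by
      have hm : ⁅a, b⁆ ∈ commutator hsH := by
        rw [_root_.commutator_def]
        exact Subgroup.commutator_mem_commutator (Subgroup.mem_top a) (Subgroup.mem_top b)
      rw [h, Subgroup.mem_bot] at hm
      exact commutatorElement_eq_one_iff_mul_comm.1 hm⟩⟩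
    letI : CommGroup hsH :=
      { (inferInstance : Group hsH) with mul_comm := IsMulCommutative.is_comm.comm }
    have hp := IsSimpleGroup.prime_card (α := hsH)
    rw [card_hsH] at hp
    norm_num at hp
  · exact h

theorem exists_double : ∃ (Γ : Type) (_ : Group Γ) (_ : Finite Γ) (σ : Γ →* hsH),
    IsStemExtension σ ∧ Nat.card σ.ker = 2 := by
  obtain ⟨K, _, _, z, hzc, hz, hzd, hn, ⟨e⟩⟩ := AltCover.exists_double_cover 98 (by norm_num)
  haveI := hn
  let π : K →* alternatingGroup (Fin 100) := e.toMonoidHom.comp (QuotientGroup.mk' (Subgroup.zpowers z))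
  have hπ : Function.Surjective π := e.surjective.comp (QuotientGroup.mk'_surjective _)
  have hker : π.ker = Subgroup.zpowers z := by
    ext x
    show e (QuotientGroup.mk' _ x) = 1 ↔ _
    rw [map_eq_one_iff e e.injective, QuotientGroup.mk'_apply, QuotientGroup.eq_one_iff]
  let φ : hsH →* alternatingGroup (Fin 100) := psi.codRestrict _ psi_mem
  let P : Subgroup (K × hsH) := MonoidHom.eqLocus (π.comp (MonoidHom.fst K hsH)) (φ.comp (MonoidHom.snd K hsH))
  have hP : ∀ a b, (a, b) ∈ P ↔ π a = φ b := fun _ _ => Iff.rfl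
  let σ : P →* hsH := (MonoidHom.snd K hsH).comp P.subtype
  have hσ : Function.Surjective σ := fun g => by
    obtain ⟨a, ha⟩ := hπ (φ g)
    exact ⟨⟨(a, g), ha⟩, rfl⟩
  have hπz : π z = 1 := MonoidHom.mem_ker.1 (hker ▸ Subgroup.mem_zpowers z)
  have hzP : (z, (1 : hsH)) ∈ P := (hP _ _).2 (by rw [hπz, map_one])
  let Z : P := ⟨(z, 1), hzP⟩
  have hkσ : ∀ x ∈ σ.ker, x = 1 ∨ x = Z := by
    rintro ⟨⟨a, b⟩, hab⟩ hx
    obtain rfl : b = 1 := hx
    rcases ker_cases (m := 98) hz hker (((hP _ _).1 hab).trans (map_one φ)) with h | h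
    · exact Or.inl (Subtype.ext (Prod.ext h rfl))
    · exact Or.inr (Subtype.ext (Prod.ext h rfl))
  have hZ1 : Z ≠ 1 := fun h => by
    have : z = 1 := congrArg (fun x : P => x.1.1) h
    rw [this, orderOf_one] at hz
    omega
  have hc : σ.ker ≤ Subgroup.center P := by
    intro x hx
    rw [Subgroup.mem_center_iff]
    intro y
    rcases hkσ x hx with rfl | rfl
    · simp
    · exact Subtype.ext (Prod.ext (Subgroup.mem_center_iff.1 hzc _) (by simp [Z]))
  refine ⟨P, inferInstance, inferInstance, σ, ⟨hσ, hc, ?_⟩, ?_⟩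
  · obtain ⟨h1, h2, hinv, hquad, hnd, hlen⟩ := invo_check
    obtain ⟨w, hw⟩ := exists_elt h1 h2
    have hw2 : w * w = 1 := Subtype.ext (rep_unique (rep_comp hw hw) rep_id fun x hx => hinv ⟨x, hx⟩)
    have hpsi : psi w = ((quads.map quadF).map dt).prod := Equiv.ext fun x => Fin.ext (by
      show pos (w.1 (posE.symm x)) = _
      rw [← hw, ← posE_val, Equiv.apply_symm_apply]
      exact hquad x)
    obtain ⟨v, hv⟩ : w ∈ (commutator P).map σ := by
      rw [_root_.commutator_def, Subgroup.map_commutator, Subgroup.map_top_of_surjective σ hσ,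
        ← _root_.commutator_def, hsH_perfect]
      exact Subgroup.mem_top _
    have hva : (π v.1.1 : Equiv.Perm (Fin 100)) = ((quads.map quadF).map dt).prod := by
      rw [(hP _ _).1 v.2, ← hpsi, ← hv.2]
      rfl
    have hsq := prod_lift_sq (m := 98) hzc hz hzd hπ hker (quads.map quadF) hnd v.1.1 hva
    rw [List.length_map, hlen] at hsq
    have hz2 : z ^ 25 = z := by
      have : z ^ 2 = 1 := hz ▸ pow_orderOf_eq_one z
      rw [show 25 = 2 * 12 + 1 from rfl, pow_succ, pow_mul, this, one_pow, one_mul]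
    rw [hz2] at hsq
    have hvv : v * v = Z := Subtype.ext (Prod.ext hsq (by
      show σ v * σ v = 1
      rw [hv.2, hw2]))
    intro x hx
    rcases hkσ x hx with rfl | rfl
    · exact one_mem _
    · rw [← hvv]; exact mul_mem hv.1 hv.1
  · have e2 : (σ.ker : Set P) = {1, Z} := Set.ext fun x => ⟨fun hx => hkσ x hx, by
      rintro (rfl | rfl)
      · exact one_mem _
      · show σ Z = 1
        rfl⟩
    rw [← SetLike.coe_sort_coe, e2, Nat.card_coe_set_eq, Set.ncard_pair (Ne.symm hZ1)]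

theorem multiplier_hsH : HasCyclicSchurMultiplier hsH 2 := by
  haveI : Fact (Nat.Prime 2) := ⟨Nat.prime_two⟩
  obtain ⟨Γ, _, _, σ, hσ, hk⟩ := exists_double
  refine ⟨⟨Γ, inferInstance, inferInstance, σ, hσ, ⟨mulEquivOfPrimeCardEq (p := 2) hk (by simp)⟩⟩, ?_⟩
  intro Δ _ _ τ hτ
  obtain ⟨hs, hc, hd⟩ := hτ
  rcases card_ker_le_two noKer_odd noKer_four τ hs hc hd with h | h
  · haveI := (Nat.card_eq_one_iff_unique.1 h).1
    exact ⟨1, fun x => ⟨1, Subsingleton.elim _ _⟩⟩
  · have e : Multiplicative (ZMod 2) ≃* τ.ker := mulEquivOfPrimeCardEq (p := 2) (by simp) h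
    exact ⟨e.toMonoidHom, e.surjective⟩

theorem multiplier_congr {G H : Type} [Group G] [Group H] (E : H ≃* G) {A : Type} [CommGroup A]
    (h : HasSchurMultiplier H A) : HasSchurMultiplier G A := by
  obtain ⟨⟨Γ, i1, i2, σ, ⟨hs, hc, hd⟩, ⟨e⟩⟩, hall⟩ := h
  have hk : ∀ {Δ : Type} [Group Δ] {X Y : Type} [Group X] [Group Y] (f : X ≃* Y) (τ : Δ →* X),
      (f.toMonoidHom.comp τ).ker = τ.ker := fun f τ => by
    ext x
    show f (τ x) = 1 ↔ τ x = 1
    exact map_eq_one_iff f f.injective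
  refine ⟨⟨Γ, i1, i2, E.toMonoidHom.comp σ, ⟨E.surjective.comp hs, by rw [hk]; exact hc, by rw [hk]; exact hd⟩,
    ⟨(MulEquiv.subgroupCongr (hk E σ)).trans e⟩⟩, ?_⟩
  intro Δ _ _ τ hτ
  obtain ⟨hs', hc', hd'⟩ := hτ
  obtain ⟨f, hf⟩ := hall Δ (E.symm.toMonoidHom.comp τ)
    ⟨E.symm.surjective.comp hs', by rw [hk]; exact hc', by rw [hk]; exact hd'⟩
  exact ⟨(MulEquiv.subgroupCongr (hk E.symm τ)).toMonoidHom.comp f,
    (MulEquiv.subgroupCongr (hk E.symm τ)).surjective.comp hf⟩

theorem exists_equiv : Nonempty (hsH ≃* ↥Spor.HS) := by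
  have hc : Nat.card ↥hsG = 44352000 := by
    obtain ⟨p, q, r⟩ := u0_spec
    exact (LeechCount.isHS_stab p q r).2
  haveI : Finite ↥hsG := Nat.finite_of_card_ne_zero (by rw [hc]; norm_num)
  have hbij : Function.Bijective hsHom.rangeRestrict :=
    (Nat.bijective_iff_surjective_and_card _).2
      ⟨hsHom.rangeRestrict_surjective, by rw [hc]; exact isHS_range.2.symm⟩
  have hmap : hsG.map (Subgroup.subtype Co0) = Spor.HS := by
    ext f
    simp only [Spor.HS, Spor.Co3, Subgroup.mem_map, Subgroup.mem_inf, MulAction.mem_stabilizer_iff,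
      Subgroup.coe_subtype]
    constructor
    · rintro ⟨g, ⟨h1, h2⟩, rfl⟩; exact ⟨⟨g.2, h1⟩, h2⟩
    · rintro ⟨⟨h0, h1⟩, h2⟩; exact ⟨⟨f, h0⟩, ⟨h1, h2⟩, rfl⟩
  exact ⟨(MulEquiv.ofBijective _ hbij).symm.trans
    ((hsG.equivMapOfInjective _ Subtype.val_injective).trans (MulEquiv.subgroupCongr hmap))⟩

theorem multiplier : HasCyclicSchurMultiplier ↥Spor.HS 2 := by
  obtain ⟨E⟩ := exists_equiv
  exact multiplier_congr E multiplier_hsH

end

end Cfsg.Agent.HSMult
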